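import Mathlib

/-!
An isometry of a nondegenerate pairing over two elements that commutes with an irreducible isometry
`s` satisfying `s ^ (2 ^ m + 1) = 1` satisfies the same identity: it is a polynomial in `s`, and the
Frobenius power `2 ^ m` takes adjoints.
-/

set_option autoImplicit false

namespace H3.Shult

variable {A : Type*} [AddCommGroup A]

theorem end_mul_apply (f g : AddMonoid.End A) (a : A) : (f * g) a = f (g a) := rfl

theorem commute_of_mem_closure {s f : AddMonoid.End A} (hf : f ∈ Subring.closure {s})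
    {g : AddMonoid.End A} (hg : g ∈ Subring.closure {s}) : Commute f g := by
  have h1 : Subring.closure {s} ≤ Subring.centralizer {s} :=
    Subring.closure_le.mpr (by
      rintro _ rfl
      exact Subring.mem_centralizer_iff.mpr fun g hg => by rw [Set.mem_singleton_iff.mp hg])
  have h2 : Subring.closure {s} ≤ Subring.centralizer {f} := Subring.closure_le.mpr (by
    rintro _ rfl
    refine Subring.mem_centralizer_iff.mpr fun g hg => ?_
    rw [Set.mem_singleton_iff.mp hg]
    exact (Subring.mem_centralizer_iff.mp (h1 hf) _ rfl).symm)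
  exact Subring.mem_centralizer_iff.mp (h2 hg) f rfl

theorem adjoint_pow [Nontrivial A] {m : ℕ} (B : A →+ A →+ ZMod 2) (h2 : ∀ a : A, a + a = 0)
    (s : AddMonoid.End A) (hs : ∀ x y, B (s x) y = B x ((s ^ 2 ^ m) y))
    {f : AddMonoid.End A} (hf : f ∈ Subring.closure {s}) :
    ∀ x y, B (f x) y = B x ((f ^ 2 ^ m) y) := by
  haveI : Nontrivial (AddMonoid.End A) := by
    obtain ⟨a, ha⟩ := exists_ne (0 : A)
    exact ⟨⟨1, 0, fun e => ha (DFunLike.congr_fun e a)⟩⟩
  have htwo : (2 : AddMonoid.End A) = 0 := by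
    rw [← one_add_one_eq_two]
    exact AddMonoidHom.ext fun a => h2 a
  haveI : CharP (AddMonoid.End A) 2 := CharTwo.of_one_ne_zero_of_two_eq_zero one_ne_zero htwo
  haveI : Fact (Nat.Prime 2) := ⟨Nat.prime_two⟩
  induction hf using Subring.closure_induction with
  | mem g hg => rw [Set.mem_singleton_iff.mp hg]; exact hs
  | zero =>
    intro x y
    rw [zero_pow (Nat.two_pow_pos m).ne']
    simp
  | one => intro x y; simp
  | add g g' hg hg' ih ih' =>
    intro x y
    rw [add_pow_char_pow_of_commute (p := 2) (n := m) (commute_of_mem_closure hg hg')]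
    show B (g x + g' x) y = B x ((g ^ 2 ^ m) y + (g' ^ 2 ^ m) y)
    rw [map_add, AddMonoidHom.add_apply, map_add, ih, ih']
  | neg g hg ih =>
    have e : -g = g := CharTwo.neg_eq g
    rw [e]; exact ih
  | mul g g' hg hg' ih ih' =>
    intro x y
    have hc := (commute_of_mem_closure hg hg').eq
    rw [show g * g' = g' * g from hc, (commute_of_mem_closure hg' hg).mul_pow]
    show B (g' (g x)) y = B x ((g' ^ 2 ^ m * g ^ 2 ^ m) y)
    rw [ih', ih, ← end_mul_apply]
    rw [((commute_of_mem_closure hg hg').pow_pow _ _).eq]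

/-- An isometry commuting with an irreducible isometry `s`, `s ^ (2 ^ m + 1) = 1`, has the same
power trivial. -/
theorem isometry_pow_eq_one {m : ℕ} (B : A →+ A →+ ZMod 2)
    (h2 : ∀ a : A, a + a = 0) (nondeg : ∀ y, (∀ x, B x y = 0) → y = 0)
    (s c : AddMonoid.End A) (hsr : s ^ (2 ^ m + 1) = 1)
    (hsiso : ∀ x y, B (s x) (s y) = B x y) (hciso : ∀ x y, B (c x) (c y) = B x y)
    (hcomm : Commute c s)
    (irr : ∀ H : AddSubgroup A, (∀ a ∈ H, s a ∈ H) → H = ⊥ ∨ H = ⊤) :
    c ^ (2 ^ m + 1) = 1 := by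
  rcases subsingleton_or_nontrivial A with hA | hA
  · exact AddMonoidHom.ext fun a => Subsingleton.elim _ _
  obtain ⟨v, hv⟩ := exists_ne (0 : A)
  have hs : ∀ x y, B (s x) y = B x ((s ^ 2 ^ m) y) := by
    intro x y
    conv_lhs => rw [show y = s ((s ^ 2 ^ m) y) by
      rw [← end_mul_apply, ← pow_succ', hsr]; rfl]
    exact hsiso x _
  -- `c` is a polynomial in `s`
  let T : AddSubgroup A :=
    { carrier := {w | ∃ f ∈ Subring.closure ({s} : Set (AddMonoid.End A)), f v = w}
      zero_mem' := ⟨0, zero_mem _, rfl⟩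
      add_mem' := fun {a b} ⟨f, hf, hfa⟩ ⟨g, hg, hgb⟩ =>
        ⟨f + g, add_mem hf hg, by rw [← hfa, ← hgb]; rfl⟩
      neg_mem' := fun {a} ⟨f, hf, hfa⟩ => ⟨-f, neg_mem hf, by rw [← hfa]; rfl⟩ }
  have hT : T = ⊤ := (irr T fun a ⟨f, hf, hfa⟩ =>
    ⟨s * f, mul_mem (Subring.subset_closure rfl) hf, by rw [← hfa]; rfl⟩).resolve_left fun h => hv <| by
      have : v ∈ T := ⟨1, one_mem _, rfl⟩
      rw [h] at this
      exact this
  obtain ⟨f, hf, hfv⟩ : c v ∈ T := by rw [hT]; trivial
  have hfs : Commute f s := commute_of_mem_closure hf (Subring.subset_closure rfl)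
  let E : AddSubgroup A :=
    { carrier := {w | f w = c w}
      zero_mem' := by simp
      add_mem' := fun {a b} (ha : f a = c a) (hb : f b = c b) => by
        show f (a + b) = c (a + b)
        rw [map_add, map_add, ha, hb]
      neg_mem' := fun {a} (ha : f a = c a) => by
        show f (-a) = c (-a)
        rw [map_neg, map_neg, ha] }
  have hE : E = ⊤ := (irr E fun a (ha : f a = c a) => by
    show f (s a) = c (s a)
    rw [← end_mul_apply, ← end_mul_apply, hfs.eq, hcomm.eq]
    show s (f a) = s (c a)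
    rw [ha]).resolve_left fun h => hv <| by
      have : v ∈ E := hfv
      rw [h] at this
      exact this
  have hfc : f = c := AddMonoidHom.ext fun a => show a ∈ E by rw [hE]; trivial
  subst hfc
  refine AddMonoidHom.ext fun y => sub_eq_zero.mp (nondeg _ fun x => ?_)
  rw [map_sub, pow_succ]
  show B x ((f ^ 2 ^ m) (f y)) - B x y = 0
  rw [← adjoint_pow B h2 s hs hf, hciso, sub_self]

end H3.Shult
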