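import Cfsg.Agent.H3.Shult.Basic
import Cfsg.Agent.H3.Shult.Isometry

/-!
Consequences of the blocks in the minimal configuration of Shult type: fixed elements normalising
`U` and centralising `Z` centralise `U`; isotropic invariant subgroups lie in the radical; the
orbit of an element singular modulo the centre has centraliser `Z` in `U`.
-/

set_option autoImplicit false
set_option linter.unusedSectionVars false

open Subgroup H85.Shult
open scoped commutatorElement

namespace H3.Shult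

variable {G : Type*} [Group G] {σ : MulAut G} {r m p : ℕ} {S U Z Z₁ R₀ : Subgroup G}

theorem bracket_eq_cm (u v : G) : ⁅u, v⁆ = cm u v := commutatorElement_def u v

/-- The blocks separate `U` over `Z`. -/
theorem exists_block (C : Cfg σ r m p S U Z) {u : G} (hu : u ∈ U) (huZ : u ∉ Z) :
    ∃ Z₁ R₀, Block m U Z Z₁ R₀ ∧ u ∉ R₀ := by
  obtain ⟨v, hv, hne⟩ : ∃ v ∈ U, ¬ u * v = v * u := by
    by_contra h
    push Not at h
    exact huZ (C.centre_U u hu h)
  obtain ⟨Z₁, R₀, hle, hz, hrel, hav, hrad, hidx⟩ :=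
    C.blocks (cm u v) (C.comU u hu v hv) fun e => hne (cm_eq_one_iff.mp e)
  exact ⟨Z₁, R₀, ⟨hle, hav, hrel, hrad, hidx⟩, fun h => hz (((hrad u).mp h).2 v hv)⟩

theorem mem_Z_of_forall (C : Cfg σ r m p S U Z) {u : G} (hu : u ∈ U)
    (h : ∀ Z₁ R₀, Block m U Z Z₁ R₀ → u ∈ R₀) : u ∈ Z := by
  by_contra hne
  obtain ⟨Z₁, R₀, B, hout⟩ := exists_block C hu hne
  exact hout (h Z₁ R₀ B)

namespace Block

/-- A hyperplane gives an additive function. -/
theorem mul_mem_iff (B : Block m U Z Z₁ R₀) {a b : G} (ha : a ∈ Z) (hb : b ∈ Z) :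
    a * b ∈ Z₁ ↔ (a ∈ Z₁ ↔ b ∈ Z₁) :=
  mul_mem_iff_of_index_two (H := Z₁.subgroupOf Z) B.rel (a := ⟨a, ha⟩) (b := ⟨b, hb⟩)

/-- The value of the pairing. -/
noncomputable def val (_B : Block m U Z Z₁ R₀) (u v : G) : ZMod 2 := by
  classical exact if cm u v ∈ Z₁ then 0 else 1

theorem val_eq_zero (B : Block m U Z Z₁ R₀) {u v : G} : B.val u v = 0 ↔ cm u v ∈ Z₁ := by
  unfold val
  split <;> rename_i h <;> simp [h]

theorem val_congr (B : Block m U Z Z₁ R₀) {u v u' v' : G} (h : cm u v = cm u' v') :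
    B.val u v = B.val u' v' := by
  unfold val; rw [h]

theorem val_left (B : Block m U Z Z₁ R₀) (F : Form σ r m U Z) {a b v : G} (ha : a ∈ U)
    (hb : b ∈ U) (hv : v ∈ U) : B.val (a * b) v = B.val a v + B.val b v := by
  classical
  have h := B.mul_mem_iff (F.comU a ha v hv) (F.comU b hb v hv)
  rw [← F.cm_left ha hb hv] at h
  unfold val
  by_cases h1 : cm a v ∈ Z₁ <;> by_cases h2 : cm b v ∈ Z₁ <;>
    simp only [h1, h2, iff_true, iff_false, not_true_eq_false, not_false_eq_true] at h <;>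
    simp [h, h1, h2] <;> decide

theorem val_right (B : Block m U Z Z₁ R₀) (F : Form σ r m U Z) {u a b : G} (hu : u ∈ U)
    (ha : a ∈ U) (hb : b ∈ U) : B.val u (a * b) = B.val u a + B.val u b := by
  rw [B.val_congr (F.cm_symm hu (mul_mem ha hb)), B.val_congr (F.cm_symm hu ha),
    B.val_congr (F.cm_symm hu hb), B.val_left F ha hb hu]

theorem val_rad (B : Block m U Z Z₁ R₀) {u v : G} (hu : u ∈ R₀) (hv : v ∈ U) : B.val u v = 0 :=
  B.val_eq_zero.mpr (((B.rad u).mp hu).2 v hv)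

theorem normalR (B : Block m U Z Z₁ R₀) (F : Form σ r m U Z) : (R₀.subgroupOf U).Normal where
  conj_mem u hu g := by
    rw [mem_subgroupOf] at hu ⊢
    have e : ((g * u * g⁻¹ : U) : G) = cm g u * u := by
      simp only [cm, Subgroup.coe_mul, Subgroup.coe_inv]; group
    rw [e]
    exact mul_mem (B.Z_le F (F.comU _ g.2 _ u.2)) hu

/-- A fixed element normalising `U` and centralising `Z` acts trivially on the block. -/
theorem fixed_trivial [Finite G] (B : Block m U Z Z₁ R₀) (F : Form σ r m U Z) {c : G}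
    (hc : σ c = c) (hcU : ∀ u ∈ U, c * u * c⁻¹ ∈ U) (hcZ : ∀ z ∈ Z, c * z = z * c) :
    ∀ u ∈ U, c * u * c⁻¹ * u⁻¹ ∈ R₀ := by
  classical
  haveI hN := B.normalR F
  letI : CommGroup (↥U ⧸ R₀.subgroupOf U) :=
    { (inferInstance : Group (↥U ⧸ R₀.subgroupOf U)) with
      mul_comm := fun a b => by
        induction a using QuotientGroup.induction_on with
        | H a =>
          induction b using QuotientGroup.induction_on with
          | H b =>
            rw [← QuotientGroup.mk_mul, ← QuotientGroup.mk_mul, QuotientGroup.eq, mem_subgroupOf]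
            have e : (((a * b)⁻¹ * (b * a) : U) : G) = cm (b : G)⁻¹ (a : G)⁻¹ := by
              simp only [cm, Subgroup.coe_mul, Subgroup.coe_inv]; group
            rw [e]
            exact B.Z_le F (F.comU _ (inv_mem b.2) _ (inv_mem a.2)) }
  let N := R₀.subgroupOf U
  -- conjugation by `c` on `U`
  have hcomm : ∀ u ∈ U, ∀ v ∈ U, cm (c * u * c⁻¹) (c * v * c⁻¹) = cm u v := by
    intro u hu v hv
    rw [← conj_cm, hcZ _ (F.comU u hu v hv), mul_inv_cancel_right]
  have hcinj : Function.Injective fun v : U => (⟨c * v * c⁻¹, hcU v v.2⟩ : U) :=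
    fun a b e => Subtype.ext (by simpa using congrArg Subtype.val e)
  let φc : U →* U :=
    { toFun := fun u => ⟨c * u * c⁻¹, hcU u u.2⟩
      map_one' := Subtype.ext (by simp)
      map_mul' := fun a b => Subtype.ext (by simp [mul_assoc]) }
  let φs : U →* U :=
    { toFun := fun u => ⟨σ u, F.invU u u.2⟩
      map_one' := Subtype.ext (by simp)
      map_mul' := fun a b => Subtype.ext (by simp) }
  have hcN : N ≤ N.comap φc := by
    intro u hu
    rw [mem_subgroupOf] at hu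
    refine mem_comap.mpr (mem_subgroupOf.mpr ((B.rad _).mpr ⟨(φc u).2, fun v hv => ?_⟩))
    obtain ⟨w, hw⟩ := (Finite.injective_iff_surjective.mp hcinj) ⟨v, hv⟩
    have hv' : c * w * c⁻¹ = v := congrArg Subtype.val hw
    show cm (c * u * c⁻¹) v ∈ Z₁
    rw [← hv', hcomm u u.2 w w.2]
    exact ((B.rad u).mp hu).2 w w.2
  have hsN : N ≤ N.comap φs := fun u hu =>
    mem_comap.mpr (mem_subgroupOf.mpr (B.invR F _ (mem_subgroupOf.mp hu)))
  let cW : AddMonoid.End (Additive (↥U ⧸ N)) := (QuotientGroup.map N N φc hcN).toAdditive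
  let sW : AddMonoid.End (Additive (↥U ⧸ N)) := (QuotientGroup.map N N φs hsN).toAdditive
  let mkA : U → Additive (↥U ⧸ N) := fun u => Additive.ofMul (QuotientGroup.mk u)
  have hmk : ∀ a : Additive (↥U ⧸ N), ∃ u : U, mkA u = a := fun a =>
    ⟨(Additive.toMul a).out, by simp [mkA]⟩
  have hcW : ∀ u : U, cW (mkA u) = mkA (φc u) := fun u => rfl
  have hsW : ∀ u : U, sW (mkA u) = mkA (φs u) := fun u => rfl
  have hzero : ∀ u : U, mkA u = 0 ↔ (u : G) ∈ R₀ := fun u => by
    show (QuotientGroup.mk u : ↥U ⧸ N) = 1 ↔ _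
    rw [QuotientGroup.eq_one_iff]; exact mem_subgroupOf
  -- the pairing
  let bf : Additive (↥U ⧸ N) → Additive (↥U ⧸ N) → ZMod 2 := fun x y =>
    B.val ((Additive.toMul x).out : U) ((Additive.toMul y).out : U)
  have hb : ∀ u v : U, bf (mkA u) (mkA v) = B.val u v := by
    intro u v
    obtain ⟨⟨n, hn⟩, e⟩ := QuotientGroup.mk_out_eq_mul N u
    obtain ⟨⟨k, hk⟩, e'⟩ := QuotientGroup.mk_out_eq_mul N v
    show B.val (((QuotientGroup.mk u : ↥U ⧸ N).out : U) : G)
      (((QuotientGroup.mk v : ↥U ⧸ N).out : U) : G) = B.val u v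
    rw [e, e', Subgroup.coe_mul, Subgroup.coe_mul, B.val_left F u.2 n.2 (mul_mem v.2 k.2),
      B.val_right F u.2 v.2 k.2, B.val_rad (mem_subgroupOf.mp hn) (mul_mem v.2 k.2),
      B.val_congr (F.cm_symm u.2 k.2), B.val_rad (mem_subgroupOf.mp hk) u.2, add_zero, add_zero]
  have hbl : ∀ x x' y, bf (x + x') y = bf x y + bf x' y := by
    intro x x' y
    obtain ⟨a, rfl⟩ := hmk x
    obtain ⟨a', rfl⟩ := hmk x'
    obtain ⟨b, rfl⟩ := hmk y
    rw [show mkA a + mkA a' = mkA (a * a') from rfl, hb, hb, hb, Subgroup.coe_mul,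
      B.val_left F a.2 a'.2 b.2]
  have hbr : ∀ x y y', bf x (y + y') = bf x y + bf x y' := by
    intro x y y'
    obtain ⟨a, rfl⟩ := hmk x
    obtain ⟨b, rfl⟩ := hmk y
    obtain ⟨b', rfl⟩ := hmk y'
    rw [show mkA b + mkA b' = mkA (b * b') from rfl, hb, hb, hb, Subgroup.coe_mul,
      B.val_right F a.2 b.2 b'.2]
  let Bp : Additive (↥U ⧸ N) →+ Additive (↥U ⧸ N) →+ ZMod 2 :=
    AddMonoidHom.mk' (fun x => AddMonoidHom.mk' (bf x) (hbr x))
      fun x x' => AddMonoidHom.ext fun y => hbl x x' y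
  have hsr : sW ^ (2 ^ m + 1) = 1 := by
    have hit : ∀ (k : ℕ) (u : U), (sW ^ k) (mkA u) =
        mkA ⟨(σ ^ k) u, F.inv_pow u.2 k⟩ := by
      intro k
      induction k with
      | zero => intro u; rfl
      | succ k ih =>
        intro u
        rw [pow_succ', end_mul_apply, ih, hsW]
        exact congrArg mkA (Subtype.ext (by
          show σ ((σ ^ k) (u : G)) = (σ ^ (k + 1)) (u : G)
          rw [pow_succ', MulAut.mul_apply]))
    refine AddMonoidHom.ext fun x => ?_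
    obtain ⟨u, rfl⟩ := hmk x
    refine (hit (2 ^ m + 1) u).trans (congrArg mkA (Subtype.ext ?_))
    show (σ ^ (2 ^ m + 1)) (u : G) = u
    rw [← F.hrm, F.hσ]; rfl
  have hpow := isometry_pow_eq_one Bp
    (fun a => by
      obtain ⟨u, rfl⟩ := hmk a
      exact (hzero (u * u)).mpr (B.Z_le F (F.sqU u u.2)))
    (fun y hy => by
      obtain ⟨v, rfl⟩ := hmk y
      refine (hzero v).mpr ((B.rad v).mpr ⟨v.2, fun u hu => B.val_eq_zero.mp ?_⟩)
      rw [B.val_congr (F.cm_symm v.2 hu), ← hb ⟨u, hu⟩ v]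
      exact hy _)
    sW cW hsr
    (fun x y => by
      obtain ⟨u, rfl⟩ := hmk x
      obtain ⟨v, rfl⟩ := hmk y
      show bf (sW (mkA u)) (sW (mkA v)) = bf (mkA u) (mkA v)
      rw [hsW, hsW, hb, hb]
      exact B.val_congr (F.cm_sigma u.2 v.2))
    (fun x y => by
      obtain ⟨u, rfl⟩ := hmk x
      obtain ⟨v, rfl⟩ := hmk y
      show bf (cW (mkA u)) (cW (mkA v)) = bf (mkA u) (mkA v)
      rw [hcW, hcW, hb, hb]
      exact B.val_congr (hcomm u u.2 v v.2))
    (AddMonoidHom.ext fun x => by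
      obtain ⟨u, rfl⟩ := hmk x
      show cW (sW (mkA u)) = sW (cW (mkA u))
      rw [hsW, hcW, hcW, hsW]
      exact congrArg mkA (Subtype.ext (by
        show c * σ (u : G) * c⁻¹ = σ (c * u * c⁻¹)
        rw [map_mul, map_mul, map_inv, hc])))
    (fun H hH => by
      let HU : Subgroup G :=
        { carrier := {g | ∃ h : g ∈ U, mkA ⟨g, h⟩ ∈ H}
          one_mem' := ⟨one_mem _, H.zero_mem⟩
          mul_mem' := fun {a b} ⟨ha, ha'⟩ ⟨hb, hb'⟩ => ⟨mul_mem ha hb, H.add_mem ha' hb'⟩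
          inv_mem' := fun {a} ⟨ha, ha'⟩ => ⟨inv_mem ha, H.neg_mem ha'⟩ }
      rcases B.irred F (H := HU) (fun g ⟨hg, hg'⟩ => ⟨F.invU g hg, hH _ hg'⟩)
        (fun g hg => ⟨B.R_le hg, by
          rw [(hzero ⟨g, B.R_le hg⟩).mpr hg]; exact H.zero_mem⟩)
        (fun g ⟨hg, _⟩ => hg) with h | h
      · left
        refine eq_bot_iff.mpr fun a ha => ?_
        obtain ⟨u, rfl⟩ := hmk a
        exact AddSubgroup.mem_bot.mpr ((hzero u).mpr (h.le ⟨u.2, ha⟩))
      · right
        refine eq_top_iff.mpr fun a _ => ?_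
        obtain ⟨u, rfl⟩ := hmk a
        obtain ⟨_, hu⟩ := h.ge u.2
        exact hu)
  -- the order of `c` is prime to `r`
  have hit : ∀ (k : ℕ) (u : U), ∃ w : U, (w : G) = c ^ k * u * (c ^ k)⁻¹ ∧
      (cW ^ k) (mkA u) = mkA w := by
    intro k
    induction k with
    | zero => intro u; exact ⟨u, by simp, rfl⟩
    | succ k ih =>
      intro u
      obtain ⟨w, hw, hw'⟩ := ih u
      refine ⟨φc w, ?_, ?_⟩
      · show c * w * c⁻¹ = _
        rw [hw, pow_succ']; group
      · rw [pow_succ', end_mul_apply, hw', hcW]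
  have hord : cW ^ orderOf c = 1 := by
    refine AddMonoidHom.ext fun x => ?_
    obtain ⟨u, rfl⟩ := hmk x
    obtain ⟨w, hw, hw'⟩ := hit (orderOf c) u
    rw [pow_orderOf_eq_one, one_mul, inv_one, mul_one] at hw
    exact hw'.trans (congrArg mkA (Subtype.ext hw))
  have hone : cW = 1 := by
    have h := pow_gcd_eq_one.mpr ⟨hpow, hord⟩
    rw [← F.hrm, (F.hr.coprime_iff_not_dvd.mpr fun hd =>
      F.hcop (hd.trans (orderOf_dvd_natCard c))).gcd_eq_one, pow_one] at h
    exact h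
  intro u hu
  have h1 : mkA (φc ⟨u, hu⟩ * ⟨u, hu⟩⁻¹) = 0 := by
    show mkA (φc ⟨u, hu⟩) + -(mkA ⟨u, hu⟩) = 0
    rw [← hcW, hone]
    exact add_neg_cancel _
  exact (hzero _).mp h1

/-- An invariant subgroup whose commutators lie in the hyperplane lies in the radical. -/
theorem sing [Finite G] (B : Block m U Z Z₁ R₀) (F : Form σ r m U Z) {X : Subgroup G}
    (hX : ∀ x ∈ X, σ x ∈ X) (hXU : X ≤ U) (hc : ∀ a ∈ X, ∀ b ∈ X, cm a b ∈ Z₁) : X ≤ R₀ := by
  intro x hx
  by_contra hxR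
  let D : Subgroup G :=
    { carrier := {w | w ∈ U ∧ ∀ b ∈ X, cm w b ∈ Z₁}
      one_mem' := ⟨one_mem _, fun b _ => by simp [cm]⟩
      mul_mem' := fun {a a'} ha ha' => ⟨mul_mem ha.1 ha'.1, fun b hb => by
        rw [F.cm_left ha.1 ha'.1 (hXU hb)]; exact mul_mem (ha.2 b hb) (ha'.2 b hb)⟩
      inv_mem' := fun {a} ha => ⟨inv_mem ha.1, fun b hb => by
        rw [F.cm_inv_left ha.1 (hXU hb)]; exact ha.2 b hb⟩ }
  have hD : ∀ w ∈ D, σ w ∈ D := fun w hw => ⟨F.invU w hw.1, fun b hb => by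
    rw [← F.sigma_pow_sub b, F.cm_sigma hw.1 (hXU ?_)]
    · exact hw.2 _ (by
        clear * - hX hb
        induction r - 1 with
        | zero => exact hb
        | succ n ih => rw [pow_succ', MulAut.mul_apply]; exact hX _ ih)
    · clear * - hX hb
      induction r - 1 with
      | zero => exact hb
      | succ n ih => rw [pow_succ', MulAut.mul_apply]; exact hX _ ih⟩
  have hUD := B.le_of_moved F hD
    (fun w hw => ⟨B.R_le hw, fun b hb => ((B.rad w).mp hw).2 b (hXU hb)⟩)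
    (hXU hx) (⟨hXU hx, fun b hb => hc x hx b hb⟩ : x ∈ D) hxR
  exact hxR ((B.rad x).mpr ⟨hXU hx, fun v hv => by
    rw [F.cm_symm (hXU hx) hv]; exact (hUD hv).2 x hx⟩)

end Block

/-- Fixed elements normalising `U` and centralising `Z` centralise `U`. -/
theorem cent [Finite G] (C : Cfg σ r m p S U Z) {c : G} (hc : σ c = c)
    (hcN : c ∈ normalizer (U : Set G)) (hcZ : ∀ z ∈ Z, c * z = z * c) :
    ∀ u ∈ U, c * u = u * c := by
  have F := form_of_cfg C
  have hcU : ∀ u ∈ U, c * u * c⁻¹ ∈ U := fun u hu => (mem_normalizer_iff.mp hcN u).mp hu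
  have hmod : ∀ u ∈ U, cm c u ∈ Z := fun u hu =>
    mem_Z_of_forall C (mul_mem (hcU u hu) (inv_mem hu)) fun Z₁ R₀ B =>
      B.fixed_trivial F hc hcU hcZ u hu
  intro u hu
  let K : Subgroup G := U ⊓ centralizer ({c} : Set G)
  have hK : ∀ x ∈ K, σ x ∈ K := fun x hx =>
    ⟨F.invU x hx.1, mem_centralizer_singleton_iff.mpr (by
      have := congrArg σ (mem_centralizer_singleton_iff.mp hx.2)
      simpa [map_mul, hc] using this)⟩
  have hZK : Z ≤ K := fun z hz => ⟨F.ZU hz, mem_centralizer_singleton_iff.mpr (hcZ z hz).symm⟩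
  have hmem : u ∈ K := by
    refine F.mem_of_moved hK hZK inf_le_left hu ⟨U.mul_mem (U.inv_mem hu) (F.invU u hu),
      mem_centralizer_singleton_iff.mpr ?_⟩
    have e1 : c * u = cm c u * u * c := by simp only [cm]; group
    have e2 : c * σ u = cm c u * σ u * c := by
      have := congrArg σ e1
      rwa [map_mul, map_mul, map_mul, hc, F.fixZ (hmod u hu)] at this
    calc u⁻¹ * σ u * c = u⁻¹ * (cm c u)⁻¹ * (cm c u * σ u * c) := by group
      _ = u⁻¹ * (cm c u)⁻¹ * (c * σ u) := by rw [e2]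
      _ = u⁻¹ * (cm c u)⁻¹ * (c * u) * (u⁻¹ * σ u) := by group
      _ = u⁻¹ * (cm c u)⁻¹ * (cm c u * u * c) * (u⁻¹ * σ u) := by rw [e1]
      _ = c * (u⁻¹ * σ u) := by group
  exact (mem_centralizer_singleton_iff.mp hmem.2).symm

/-- The centraliser in `U` of the orbit of an element singular modulo the centre is `Z`. -/
theorem hQ [Finite G] (C : Cfg σ r m p S U Z) {x : G} (hx : x ∈ U) (hxZ : x ∉ Z)
    (hs : ∀ k : ℕ, ⁅(σ ^ k) x, x⁆ ∈ center G) {h : G} (hh : h ∈ U)
    (hc : ∀ k : ℕ, Commute ((σ ^ k) x) h) : h ∈ Z := by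
  have F := form_of_cfg C
  -- outside the radical, the orbit spans
  have span : ∀ {Z₁ R₀ : Subgroup G}, Block m U Z Z₁ R₀ → x ∉ R₀ → ∀ b ∈ U,
      (∀ k : ℕ, cm ((σ ^ k) x) b ∈ Z₁) → b ∈ R₀ := by
    intro Z₁ R₀ B hxR b hb hk
    let D : Subgroup G :=
      { carrier := {w | w ∈ U ∧ ∀ k : ℕ, cm ((σ ^ k) w) b ∈ Z₁}
        one_mem' := ⟨one_mem _, fun k => by simp [cm]⟩
        mul_mem' := fun {a a'} ha ha' => ⟨mul_mem ha.1 ha'.1, fun k => by
          rw [map_mul, F.cm_left (F.inv_pow ha.1 k) (F.inv_pow ha'.1 k) hb]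
          exact mul_mem (ha.2 k) (ha'.2 k)⟩
        inv_mem' := fun {a} ha => ⟨inv_mem ha.1, fun k => by
          rw [map_inv, F.cm_inv_left (F.inv_pow ha.1 k) hb]; exact ha.2 k⟩ }
    have hUD := B.le_of_moved F (H := D)
      (fun w hw => ⟨F.invU w hw.1, fun k => by
        rw [← MulAut.mul_apply, ← pow_succ]; exact hw.2 (k + 1)⟩)
      (fun w hw => ⟨B.R_le hw, fun k => by
        have hwk : (σ ^ k) w ∈ R₀ := by
          induction k with
          | zero => exact hw
          | succ n ih => rw [pow_succ', MulAut.mul_apply]; exact B.invR F _ ih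
        exact ((B.rad _).mp hwk).2 b hb⟩)
      hx ⟨hx, hk⟩ hxR
    exact (B.rad b).mpr ⟨hb, fun v hv => by
      rw [F.cm_symm hb hv]
      simpa using (hUD hv).2 0⟩
  by_cases hall : ∀ k : ℕ, cm ((σ ^ k) x) x = 1
  · obtain ⟨Z₁, R₀, B, hxR⟩ := exists_block C hx hxZ
    exact absurd (span B hxR x hx fun k => by rw [hall k]; exact one_mem _) hxR
  · push Not at hall
    obtain ⟨k, hk⟩ := hall
    refine mem_Z_of_forall C hh fun Z₁ R₀ B => span B (fun hxR => hk ?_) h hh fun j => by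
      rw [cm_eq_one_iff.mpr (hc j).eq]; exact one_mem _
    refine B.avoid _ ?_ (bracket_eq_cm ((σ ^ k) x) x ▸ hs k)
    rw [F.cm_symm (F.inv_pow hx k) hx]
    exact ((B.rad x).mp hxR).2 _ (F.inv_pow hx k)

end H3.Shult
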