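import Cfsg.Agent.H85.Shult.Setting
import Cfsg.Agent.H41.Shult.Coprime
import Mathlib

/-!
The commutator pairing of the special group `U` in the minimal configuration of Shult type: one
block, that is a hyperplane `Z₁` of `Z` and the radical `R₀` of the pairing modulo `Z₁`, of index
`(2 ^ m) ^ 2`, on whose quotient `σ` acts irreducibly.
-/

set_option autoImplicit false
set_option linter.unusedSectionVars false

open Subgroup H85.Shult

namespace H3.Shult

variable {G : Type*} [Group G]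

/-- The commutator used for the pairing. -/
def cm (u v : G) : G := u * v * u⁻¹ * v⁻¹

theorem cm_eq_one_iff {u v : G} : cm u v = 1 ↔ u * v = v * u := by
  rw [cm, mul_inv_eq_one, mul_inv_eq_iff_eq_mul]

theorem cm_symm_inv (u v : G) : cm v u = (cm u v)⁻¹ := by
  simp only [cm]; group

theorem map_cm (f : MulAut G) (u v : G) : f (cm u v) = cm (f u) (f v) := by
  simp only [cm, map_mul, map_inv]

theorem conj_cm (c u v : G) : c * cm u v * c⁻¹ = cm (c * u * c⁻¹) (c * v * c⁻¹) := by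
  simp only [cm]; group

/-- A block: a hyperplane of `Z` avoiding the centre, and the radical modulo it. -/
structure Block (m : ℕ) (U Z Z₁ R₀ : Subgroup G) : Prop where
  le : Z₁ ≤ Z
  avoid : ∀ w ∈ Z₁, w ∈ center G → w = 1
  rel : Z₁.relIndex Z = 2
  rad : ∀ u : G, u ∈ R₀ ↔ u ∈ U ∧ ∀ v ∈ U, cm u v ∈ Z₁
  idx : R₀.relIndex U = (2 ^ m) ^ 2

/-- The configuration on `U`, as far as the blocks need it. -/
structure Form (σ : MulAut G) (r m : ℕ) (U Z : Subgroup G) : Prop where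
  hr : r.Prime
  hrm : r = 2 ^ m + 1
  m_pos : 0 < m
  hσ : σ ^ r = 1
  hcop : ¬ r ∣ Nat.card G
  pU : IsPGroup 2 U
  invU : ∀ u ∈ U, σ u ∈ U
  defZ : ∀ u : G, u ∈ Z ↔ u ∈ U ∧ σ u = u
  comU : ∀ u ∈ U, ∀ v ∈ U, cm u v ∈ Z
  cenU : ∀ u ∈ U, ∀ z ∈ Z, u * z = z * u
  sqU : ∀ u ∈ U, u * u ∈ Z
  sqZ : ∀ z ∈ Z, z * z = 1

theorem form_of_cfg {σ : MulAut G} {r m p : ℕ} {S U Z : Subgroup G} (C : Cfg σ r m p S U Z) :
    Form σ r m U Z :=
  ⟨C.hr, C.hrm, C.m_pos, C.hσ, C.hcop, C.pU, C.invU, C.defZ, C.comU, C.cenU, C.sqU, C.sqZ⟩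

namespace Form

variable {σ : MulAut G} {r m : ℕ} {U Z : Subgroup G}

theorem ZU (F : Form σ r m U Z) : Z ≤ U := fun z hz => ((F.defZ z).mp hz).1

theorem fixZ (F : Form σ r m U Z) {z : G} (hz : z ∈ Z) : σ z = z := ((F.defZ z).mp hz).2

theorem cm_left (F : Form σ r m U Z) {a b v : G} (ha : a ∈ U) (hb : b ∈ U) (hv : v ∈ U) :
    cm (a * b) v = cm a v * cm b v := by
  have e : cm (a * b) v = a * cm b v * a⁻¹ * cm a v := by simp only [cm]; group
  rw [e, F.cenU a ha _ (F.comU b hb v hv), mul_inv_cancel_right,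
    F.cenU _ (F.ZU (F.comU b hb v hv)) _ (F.comU a ha v hv)]

theorem cm_symm (F : Form σ r m U Z) {u v : G} (hu : u ∈ U) (hv : v ∈ U) : cm u v = cm v u := by
  rw [cm_symm_inv u v, inv_eq_of_mul_eq_one_right (F.sqZ _ (F.comU u hu v hv))]

theorem cm_right (F : Form σ r m U Z) {u a b : G} (hu : u ∈ U) (ha : a ∈ U) (hb : b ∈ U) :
    cm u (a * b) = cm u a * cm u b := by
  rw [F.cm_symm hu (mul_mem ha hb), F.cm_left ha hb hu, F.cm_symm ha hu, F.cm_symm hb hu]

theorem cm_inv_left (F : Form σ r m U Z) {a v : G} (ha : a ∈ U) (hv : v ∈ U) :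
    cm a⁻¹ v = cm a v := by
  have h : cm (1 : G) v = 1 := by simp [cm]
  have h2 := F.cm_left ha (inv_mem ha) hv
  rw [mul_inv_cancel, h] at h2
  rw [← inv_eq_of_mul_eq_one_right h2.symm, inv_eq_of_mul_eq_one_right (F.sqZ _ (F.comU a ha v hv))]

theorem cm_of_memZ (F : Form σ r m U Z) {z v : G} (hz : z ∈ Z) (hv : v ∈ U) : cm z v = 1 :=
  cm_eq_one_iff.mpr (F.cenU v hv z hz).symm

theorem cm_sigma (F : Form σ r m U Z) {u v : G} (hu : u ∈ U) (hv : v ∈ U) :
    cm (σ u) (σ v) = cm u v := by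
  rw [← map_cm, F.fixZ (F.comU u hu v hv)]

theorem inv_pow (F : Form σ r m U Z) {u : G} (hu : u ∈ U) (i : ℕ) : (σ ^ i) u ∈ U := by
  induction i with
  | zero => exact hu
  | succ n ih => rw [pow_succ', MulAut.mul_apply]; exact F.invU _ ih

/-- The exponent of `σ` inverse to one. -/
theorem sigma_pow_sub (F : Form σ r m U Z) (u : G) : σ ((σ ^ (r - 1)) u) = u := by
  rw [← MulAut.mul_apply, ← pow_succ', Nat.sub_add_cancel F.hr.one_le, F.hσ, MulAut.one_apply]

/-- An invariant subgroup with fixed group `Z` has order congruent to that of `Z`. -/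
theorem card_modEq [Finite G] (F : Form σ r m U Z) {H : Subgroup G} (hH : ∀ x ∈ H, σ x ∈ H)
    (hZH : Z ≤ H) (hHU : H ≤ U) : Nat.card H ≡ Nat.card Z [MOD r] := by
  haveI := Fact.mk F.hr
  have hcancel : ∀ x ∈ H, (σ ^ (r - 1)) x ∈ H := by
    intro x hx
    have : ∀ n : ℕ, (σ ^ n) x ∈ H := by
      intro n
      induction n with
      | zero => exact hx
      | succ n ih => rw [pow_succ', MulAut.mul_apply]; exact hH _ ih
    exact this _
  let e : Equiv.Perm H :=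
    { toFun := fun x => ⟨σ x, hH x x.2⟩
      invFun := fun x => ⟨(σ ^ (r - 1)) x, hcancel x x.2⟩
      left_inv := fun x => Subtype.ext (by
        show (σ ^ (r - 1)) (σ (x : G)) = x
        rw [← MulAut.mul_apply, ← pow_succ, Nat.sub_add_cancel F.hr.one_le, F.hσ,
          MulAut.one_apply])
      right_inv := fun x => Subtype.ext (F.sigma_pow_sub x) }
  have hit : ∀ (n : ℕ) (x : H), (((e ^ n) x : H) : G) = (σ ^ n) x := by
    intro n
    induction n with
    | zero => intro x; rfl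
    | succ n ih =>
      intro x
      rw [pow_succ, Equiv.Perm.mul_apply, ih, pow_succ, MulAut.mul_apply]
      rfl
  have he : e ^ r = 1 := Equiv.ext fun x => Subtype.ext (by rw [hit, F.hσ]; rfl)
  have hp : IsPGroup r (zpowers e) := by
    rintro ⟨_, i, rfl⟩
    refine ⟨1, Subtype.ext ?_⟩
    show (e ^ i) ^ r ^ 1 = 1
    rw [pow_one, ← zpow_natCast (e ^ i), ← zpow_mul, mul_comm, zpow_mul, zpow_natCast, he,
      one_zpow]
  have h := hp.card_modEq_card_fixedPoints H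
  have hfix : Nat.card (MulAction.fixedPoints (zpowers e) H) = Nat.card Z := by
    refine Nat.card_congr
      { toFun := fun x => ⟨(x.1 : G), (F.defZ _).mpr ⟨hHU x.1.2,
          congrArg Subtype.val (x.2 ⟨e, mem_zpowers e⟩)⟩⟩
        invFun := fun z => ⟨⟨z, hZH z.2⟩, fun s => ?_⟩
        left_inv := fun x => rfl
        right_inv := fun z => rfl }
    obtain ⟨s, i, rfl⟩ := s
    have hz : e • (⟨(z : G), hZH z.2⟩ : H) = ⟨(z : G), hZH z.2⟩ :=
      Subtype.ext (F.fixZ z.2)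
    exact MulAction.mem_stabilizer_iff.mp
      (zpow_mem (MulAction.mem_stabilizer_iff.mpr hz) i)
  rwa [hfix] at h

/-- A coset fixed by `σ` of an invariant subgroup containing `Z` lies in it. -/
theorem mem_of_moved [Finite G] (F : Form σ r m U Z) {H : Subgroup G} (hH : ∀ x ∈ H, σ x ∈ H)
    (hZH : Z ≤ H) (hHU : H ≤ U) {u : G} (hu : u ∈ U) (h : u⁻¹ * σ u ∈ H) : u ∈ H := by
  obtain ⟨k, hk, hfix⟩ := H41.Shult.exists_fixed_coset F.hr F.hσ F.hcop (H := H) hH h
  have := hZH ((F.defZ _).mpr ⟨mul_mem hu (hHU hk), hfix⟩)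
  exact (H.mul_mem_cancel_right hk).mp this

end Form

theorem dvd_two_pow_sub_one {r m k : ℕ} (hrm : r = 2 ^ m + 1) (hk : k ≤ 2 * m)
    (h : 2 ^ k ≡ 1 [MOD r]) : k = 0 ∨ k = 2 * m := by
  subst hrm
  have hpos : 1 ≤ 2 ^ k := Nat.one_le_two_pow
  rcases Nat.lt_or_ge k (m + 1) with hlt | hge
  · left
    have hle : 2 ^ k < 2 ^ m + 1 := Nat.lt_succ_of_le (Nat.pow_le_pow_right two_pos (by omega))
    have h1 : 2 ^ k % (2 ^ m + 1) = 1 % (2 ^ m + 1) := h
    rw [Nat.mod_eq_of_lt hle, Nat.mod_eq_of_lt (by have := Nat.two_pow_pos m; omega)] at h1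
    exact (Nat.pow_eq_one.mp h1).resolve_left (by norm_num)
  · by_contra hcon
    push Not at hcon
    obtain ⟨j, hj⟩ : ∃ j, k = m + j := ⟨k - m, by omega⟩
    subst hj
    have hjm : 2 ^ j + 1 < 2 ^ m + 1 :=
      Nat.add_lt_add_right (Nat.pow_lt_pow_right one_lt_two (by omega)) 1
    have h2 : 2 ^ (m + j) + 2 ^ j ≡ 1 + 2 ^ j [MOD 2 ^ m + 1] := h.add_right _
    have h3 : 2 ^ (m + j) + 2 ^ j = (2 ^ m + 1) * 2 ^ j := by rw [pow_add]; ring
    have h4 : (1 + 2 ^ j) % (2 ^ m + 1) = 0 := by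
      have := h2.symm
      rw [Nat.ModEq, h3, Nat.mul_mod_right] at this
      exact this
    rw [Nat.mod_eq_of_lt (by omega)] at h4
    have h5 := Nat.two_pow_pos j
    exact Nat.add_one_ne_zero _ (by rwa [Nat.add_comm] at h4)

namespace Block

variable {σ : MulAut G} {r m : ℕ} {U Z Z₁ R₀ : Subgroup G}

theorem R_le (B : Block m U Z Z₁ R₀) : R₀ ≤ U := fun u hu => ((B.rad u).mp hu).1

theorem Z_le (B : Block m U Z Z₁ R₀) (F : Form σ r m U Z) : Z ≤ R₀ := fun z hz =>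
  (B.rad z).mpr ⟨F.ZU hz, fun v hv => by rw [F.cm_of_memZ hz hv]; exact one_mem _⟩

theorem invR (B : Block m U Z Z₁ R₀) (F : Form σ r m U Z) : ∀ u ∈ R₀, σ u ∈ R₀ := by
  intro u hu
  refine (B.rad _).mpr ⟨F.invU u (B.R_le hu), fun v hv => ?_⟩
  rw [← F.sigma_pow_sub v, F.cm_sigma (B.R_le hu) (F.inv_pow hv _)]
  exact ((B.rad u).mp hu).2 _ (F.inv_pow hv _)

/-- Irreducibility of `σ` on `U / R₀`. -/
theorem irred [Finite G] (B : Block m U Z Z₁ R₀) (F : Form σ r m U Z) {H : Subgroup G}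
    (hH : ∀ x ∈ H, σ x ∈ H) (hRH : R₀ ≤ H) (hHU : H ≤ U) : H = R₀ ∨ H = U := by
  haveI : Fact (Nat.Prime 2) := ⟨Nat.prime_two⟩
  have hm := relIndex_mul_relIndex R₀ H U hRH hHU
  rw [B.idx, ← pow_mul, mul_comm m 2] at hm
  obtain ⟨k, hk, hkeq⟩ := (Nat.dvd_prime_pow Nat.prime_two).mp ⟨_, hm.symm⟩
  have h1 : Nat.card R₀ * 2 ^ k = Nat.card H := by
    rw [← hkeq, ← Nat.card_congr (subgroupOfEquivOfLe hRH).toEquiv]; exact card_mul_index _
  have hmod : 2 ^ k ≡ 1 [MOD r] := by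
    have hA := (F.card_modEq hH ((B.Z_le F).trans hRH) hHU).trans
      (F.card_modEq (B.invR F) (B.Z_le F) B.R_le).symm
    rw [← h1] at hA
    refine Nat.ModEq.cancel_left_of_coprime ?_ (by rwa [mul_one])
    exact (F.hr.coprime_iff_not_dvd.mpr fun hd => F.hcop (hd.trans (card_subgroup_dvd_card R₀)))
  rcases dvd_two_pow_sub_one F.hrm hk hmod with h0 | h0
  · left
    rw [h0, pow_zero, mul_one] at h1
    exact (eq_of_le_of_card_ge hRH h1.ge).symm
  · right
    rw [hkeq, h0] at hm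
    have : H.relIndex U = 1 :=
      Nat.eq_of_mul_eq_mul_left (Nat.two_pow_pos (2 * m)) (by rw [hm, mul_one])
    exact le_antisymm hHU (relIndex_eq_one.mp this)

/-- The radical is proper. -/
theorem exists_notMem (B : Block m U Z Z₁ R₀) (F : Form σ r m U Z) : ∃ u ∈ U, u ∉ R₀ := by
  by_contra h
  push Not at h
  have h1 : R₀.relIndex U = 1 := relIndex_eq_one.mpr h
  rw [B.idx] at h1
  have := F.m_pos
  have h2 : 1 < (2 ^ m) ^ 2 := Nat.one_lt_pow two_ne_zero (Nat.one_lt_two_pow (by omega))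
  omega

/-- An invariant subgroup meeting `U` outside the radical spans `U` with it. -/
theorem le_of_moved [Finite G] (B : Block m U Z Z₁ R₀) (F : Form σ r m U Z) {H : Subgroup G}
    (hH : ∀ x ∈ H, σ x ∈ H) (hRH : R₀ ≤ H) {u : G} (hu : u ∈ U) (huH : u ∈ H) (huR : u ∉ R₀) :
    U ≤ H := by
  rcases B.irred F (H := H ⊓ U) (fun x hx => ⟨hH x hx.1, F.invU x hx.2⟩) (le_inf hRH B.R_le)
    inf_le_right with h | h
  · exact absurd (h.le ⟨huH, hu⟩) huR
  · exact h.ge.trans inf_le_left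

end Block

end H3.Shult
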